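import Mathlib
import Groth.Prelude.Def_SiteCmp
import Groth.Agent.Lib.Helper4.PullKFlat
import Groth.Agent.Lib.Helper5.KProj.DerHo

/-!
# The inverse image of modules on ringed sites preserves quasi-isomorphisms between K-flat
complexes with flat terms (helper6)

Consequently the cellular complexes are adapted to `f^*`.
-/

set_option backward.isDefEq.respectTransparency.types false
set_option synthInstance.maxHeartbeats 400000
set_option autoImplicit false
set_option linter.unusedSectionVars false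
set_option linter.style.haveILetI false
set_option linter.unusedSimpArgs false
universe u
open CategoryTheory CategoryTheory.Limits Opposite
attribute [local instance] HasDerivedCategory.standard

namespace Groth.Agent.Lib.Helper6.RlimPush
open Groth.Agent.Lib.Helper5.KFlatSiteQ Groth.Agent.Lib.Helper5.Misc.KFlatSite
  Groth.Agent.Lib.Helper4.PullKFlat

variable {C D : Type u} [SmallCategory C] [SmallCategory D] {J : GrothendieckTopology C}
  {K : GrothendieckTopology D} {O_C : Sheaf J CommRingCat.{u}} {O_D : Sheaf K CommRingCat.{u}}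
  (f : ModSite.RMor O_C O_D)

include K in
/-- the inverse image of an acyclic K-flat complex with flat terms is exact in every degree -/
theorem exactAt_pull_succ (E : CochainComplex (ModSite.Mod O_D) ℤ) (hK : ModSite.IsKFlat E)
    (hac : ∀ i, IsZero (E.homology i)) (hfl : ∀ i, ModSite.IsFlat (E.X i)) (n : ℤ) :
    ((Fc f).obj E).ExactAt (n + 1) := by
  have hZ : ∀ n, ModSite.IsFlat (E.cycles n) := isFlat_cycles O_D hK hac hfl
  have hS : ∀ m, ((zS E m).map f.pull).ShortExact := fun m =>
    Groth.Agent.Lib.Helper4.PullSES.main f (zS E m) (zS_shortExact E hac m) (hZ (m + 1))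
  rw [HomologicalComplex.exactAt_iff' _ n (n + 1) (n + 1 + 1) (by simp) (by simp)]
  let S₁ : ShortComplex (ModSite.Mod O_C) := (zS E (n + 1)).map f.pull
  let S₃ : ShortComplex (ModSite.Mod O_C) :=
    ShortComplex.mk (f.pull.map (E.d n (n + 1))) (f.pull.map (E.toCycles (n + 1) (n + 1 + 1)))
      (by rw [← Functor.map_comp, HomologicalComplex.d_toCycles, Functor.map_zero])
  let φ₁ : S₃ ⟶ S₁ := ShortComplex.homMk (f.pull.map (E.toCycles n (n + 1))) (𝟙 _) (𝟙 _)
    (by
      show f.pull.map (E.toCycles n (n + 1)) ≫ f.pull.map (E.iCycles (n + 1)) =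
        f.pull.map (E.d n (n + 1)) ≫ 𝟙 _
      rw [Category.comp_id, ← Functor.map_comp, HomologicalComplex.toCycles_i])
    (by
      show 𝟙 _ ≫ f.pull.map (E.toCycles (n + 1) (n + 1 + 1)) =
        f.pull.map (E.toCycles (n + 1) (n + 1 + 1)) ≫ 𝟙 _
      rw [Category.id_comp, Category.comp_id])
  haveI : Epi φ₁.τ₁ := by
    show Epi (f.pull.map (E.toCycles n (n + 1)))
    exact (hS n).epi_g
  haveI : IsIso φ₁.τ₂ := by
    show IsIso (𝟙 _)
    infer_instance
  haveI : Mono φ₁.τ₃ := by
    show Mono (𝟙 _)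
    infer_instance
  have h3 : S₃.Exact := (ShortComplex.exact_iff_of_epi_of_isIso_of_mono φ₁).2 (hS (n + 1)).exact
  let φ₂ : S₃ ⟶ ((Fc f).obj E).sc' n (n + 1) (n + 1 + 1) :=
    ShortComplex.homMk (𝟙 _) (𝟙 _) (f.pull.map (E.iCycles (n + 1 + 1)))
    (by
      show 𝟙 _ ≫ f.pull.map (E.d n (n + 1)) = f.pull.map (E.d n (n + 1)) ≫ 𝟙 _
      rw [Category.id_comp, Category.comp_id])
    (by
      show 𝟙 _ ≫ f.pull.map (E.d (n + 1) (n + 1 + 1)) =
        f.pull.map (E.toCycles (n + 1) (n + 1 + 1)) ≫ f.pull.map (E.iCycles (n + 1 + 1))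
      rw [Category.id_comp, ← Functor.map_comp, HomologicalComplex.toCycles_i])
  haveI : Epi φ₂.τ₁ := by
    show Epi (𝟙 _)
    infer_instance
  haveI : IsIso φ₂.τ₂ := by
    show IsIso (𝟙 _)
    infer_instance
  haveI : Mono φ₂.τ₃ := by
    show Mono (f.pull.map (E.iCycles (n + 1 + 1)))
    exact (hS (n + 1 + 1)).mono_f
  exact (ShortComplex.exact_iff_of_epi_of_isIso_of_mono φ₂).1 h3

include K in
theorem isZero_homology_pull (E : CochainComplex (ModSite.Mod O_D) ℤ) (hK : ModSite.IsKFlat E)
    (hac : ∀ i, IsZero (E.homology i)) (hfl : ∀ i, ModSite.IsFlat (E.X i)) (m : ℤ) :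
    IsZero (((Fc f).obj E).homology m) := by
  obtain ⟨n, rfl⟩ : ∃ n, m = n + 1 := ⟨m - 1, by ring⟩
  exact (HomologicalComplex.exactAt_iff_isZero_homology _ _).1
    (exactAt_pull_succ (K := K) f E hK hac hfl n)

include K in
/-- `f^*` preserves quasi-isomorphisms between K-flat complexes with flat terms -/
theorem quasiIso_pull_map {L L' : CochainComplex (ModSite.Mod O_D) ℤ} (φ : L ⟶ L')
    (hL : ModSite.IsKFlat L ∧ ∀ n, ModSite.IsFlat (L.X n))
    (hL' : ModSite.IsKFlat L' ∧ ∀ n, ModSite.IsFlat (L'.X n)) (hφ : QuasiIso φ) :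
    QuasiIso ((Fc f).map φ) := by
  have hEk : ModSite.IsKFlat (CochainComplex.mappingCone φ) :=
    (isKFlat_cone_two_of_three (O := O_D) φ).1 hL.1 hL'.1
  have hEf : ∀ n, ModSite.IsFlat ((CochainComplex.mappingCone φ).X n) :=
    isFlat_cone_X O_D φ hL.2 hL'.2
  have hEa : ∀ i, IsZero ((CochainComplex.mappingCone φ).homology i) := by
    have h := (Groth.Agent.Helper5.FlatAcyc.quasiIso_iff_acyclic_cone φ).1 hφ
    intro i
    exact (HomologicalComplex.exactAt_iff_isZero_homology _ _).1 (h i)
  rw [Groth.Agent.Helper5.FlatAcyc.quasiIso_iff_acyclic_cone]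
  intro i
  rw [HomologicalComplex.exactAt_iff_isZero_homology]
  exact IsZero.of_iso (isZero_homology_pull (K := K) f _ hEk hEa hEf i)
    ((HomologicalComplex.homologyFunctor _ _ i).mapIso
      (CochainComplex.mappingCone.mapHomologicalComplexIso φ f.pull).symm)

include K in
/-- cellular complexes are adapted to `f^*` -/
theorem adaptedCell : Groth.Agent.Lib.Helper5.KProj.DerHo.AdaptedCx f.pull
    (fun L : CochainComplex (ModSite.Mod O_D) ℤ => Cell O_D L) where
  res L := by
    obtain ⟨P, p, h1, h2⟩ := exists_cell_resolution O_D L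
    exact ⟨P, p, h1, h2⟩
  inv {L L'} φ hL hL' hφ :=
    quasiIso_pull_map (K := K) f φ (Cell.isKFlat O_D hL) (Cell.isKFlat O_D hL') hφ

end Groth.Agent.Lib.Helper6.RlimPush
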