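import Mathlib
import Groth.Prelude.Def_SiteCmp
import Groth.Agent.Lib.Helper6.RlimPush.PullQis
import Groth.Agent.Lib.Helper5.KProj.DerAdj
import Groth.Agent.Lib.Helper5.KProj.LiftIso
import Groth.Agent.Lib.Helper3.KInjDer
import Groth.Agent.Lib.Helper3.ModGroth

/-!
# The derived adjunction `Lf^* ⊣ Rf_*` for a morphism of ringed sites (helper6)

Port of helper5's `Stalk/LpullAdj` (schemes) to ringed sites.
-/

set_option backward.isDefEq.respectTransparency.types false
set_option synthInstance.maxHeartbeats 400000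
set_option autoImplicit false
set_option linter.unusedSectionVars false
set_option linter.unusedVariables false
set_option linter.style.haveILetI false
universe u
open CategoryTheory CategoryTheory.Limits HomologicalComplex
attribute [local instance] HasDerivedCategory.standard

namespace Groth.Agent.Lib.Helper6.RlimPush

open Groth.Agent.Lib.Helper5.KFlatSiteQ
  Groth.Agent.Lib.Helper5.KProj Groth.Agent.Lib.Helper5.KProj.DerHo
  Groth.Agent.Lib.Helper5.KProj.PtKan2 Groth.Agent.Helper3.KInjDer

variable {C D : Type u} [SmallCategory C] [SmallCategory D] {J : GrothendieckTopology C}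
  {K : GrothendieckTopology D} {O_C : Sheaf J CommRingCat.{u}} {O_D : Sheaf K CommRingCat.{u}}

/-- quasi-isomorphisms in `K(O)` -/
abbrev WK (O : Sheaf J CommRingCat.{u}) :
    MorphismProperty (HomotopyCategory (ModSite.Mod O) (ComplexShape.up ℤ)) :=
  HomotopyCategory.quasiIso (ModSite.Mod O) (ComplexShape.up ℤ)

variable (f : ModSite.RMor O_C O_D)

/-- `K(O_D) ⥤ D(O_C)` induced by `f^*` -/
noncomputable abbrev pullKh :
    HomotopyCategory (ModSite.Mod O_D) (ComplexShape.up ℤ) ⥤ DerivedCategory (ModSite.Mod O_C) :=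
  Fh f.pull

instance hasLpull : (pullKh f).HasLeftDerivedFunctor (WK O_D) :=
  DerHo.hasLeftDerivedFunctor (adaptedCell (K := K) f)

/-- `Lf^*` -/
noncomputable abbrev Lpull :
    DerivedCategory (ModSite.Mod O_D) ⥤ DerivedCategory (ModSite.Mod O_C) :=
  (pullKh f).totalLeftDerived DerivedCategory.Qh (WK O_D)

/-- the counit of `Lf^*` -/
noncomputable abbrev lpullCounit : DerivedCategory.Qh ⋙ Lpull f ⟶ pullKh f :=
  (pullKh f).totalLeftDerivedCounit DerivedCategory.Qh (WK O_D)

/-- the K-level adjunction `f^* ⊣ f_*` -/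
noncomputable abbrev adjK :
    f.pull.mapHomotopyCategory (ComplexShape.up ℤ) ⊣
      f.push.mapHomotopyCategory (ComplexShape.up ℤ) :=
  adjH f.adj (ComplexShape.up ℤ)

/-- every object of `D(O_D)` is represented by a cellular complex -/
theorem exists_cell_repr (E : DerivedCategory (ModSite.Mod O_D)) :
    ∃ P : CochainComplex (ModSite.Mod O_D) ℤ, Cell O_D P ∧
      Nonempty (DerivedCategory.Q.obj P ≅ E) := by
  let E₀ : CochainComplex (ModSite.Mod O_D) ℤ := DerivedCategory.Q.objPreimage E
  obtain ⟨P, p, hP, hp⟩ : ∃ (P : CochainComplex (ModSite.Mod O_D) ℤ) (p : P ⟶ E₀), Cell O_D P ∧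
      QuasiIso p := by
    obtain ⟨P, p, hP, hp⟩ := exists_cell_resolution O_D E₀
    exact ⟨P, p, hP, hp⟩
  refine ⟨P, hP, ⟨?_⟩⟩
  haveI : IsIso (DerivedCategory.Q.map (X := P) (Y := E₀) p) :=
    (DerivedCategory.isIso_Q_map_iff_quasiIso (ModSite.Mod O_D) p).2 hp
  exact asIso (DerivedCategory.Q.map (X := P) (Y := E₀) p) ≪≫ DerivedCategory.Q.objObjPreimageIso E

/-- cellular objects of the homotopy category -/
def CellK (P : HomotopyCategory (ModSite.Mod O_D) (ComplexShape.up ℤ)) : Prop :=
  Cell O_D P.as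

theorem exists_cellK (E : DerivedCategory (ModSite.Mod O_D)) :
    ∃ P, CellK (O_D := O_D) P ∧ Nonempty (DerivedCategory.Qh.obj P ≅ E) := by
  obtain ⟨P, hP, ⟨e⟩⟩ := exists_cell_repr E
  exact ⟨(HomotopyCategory.quotient (ModSite.Mod O_D) (ComplexShape.up ℤ)).obj P, hP, ⟨e⟩⟩

variable [SiteCmp.HasRpushD f]

/-- the unit of `Rf_*` -/
noncomputable abbrev rpushUnit : SiteCmp.pushKh f ⟶ DerivedCategory.Qh ⋙ SiteCmp.RpushD f :=
  (SiteCmp.pushKh f).totalRightDerivedUnit DerivedCategory.Qh (WK O_C)

/-- the composite `pullKh f ⋙ Rf_*` is adapted to cellular complexes -/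
theorem adapted_pull_rpush :
    Adapted (pullKh f ⋙ SiteCmp.RpushD f) (WK O_D) (CellK (O_D := O_D)) where
  res := (adapted (adaptedCell (K := K) f)).res
  inv s hK hK' hs := by
    haveI : IsIso ((pullKh f).map s) := (adapted (adaptedCell (K := K) f)).inv s hK hK' hs
    exact inferInstanceAs (IsIso ((SiteCmp.RpushD f).map ((pullKh f).map s)))

/-- `Lf^* ⋙ Rf_*` is the left derived functor of `pullKh f ⋙ Rf_*` -/
theorem isLeft_lpull_rpush :
    (Lpull f ⋙ SiteCmp.RpushD f).IsLeftDerivedFunctor
      ((Functor.associator _ _ _).inv ≫ Functor.whiskerRight (lpullCounit f) (SiteCmp.RpushD f))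
      (WK O_D) := by
  haveI := PtKan2.hasLeftDerivedFunctor DerivedCategory.Qh (adapted_pull_rpush f)
  let N := pullKh f ⋙ SiteCmp.RpushD f
  refine isLeftDerivedFunctor_of_isIso_good DerivedCategory.Qh (WK O_D) N
    (N.totalLeftDerived DerivedCategory.Qh (WK O_D))
    (N.totalLeftDerivedCounit DerivedCategory.Qh (WK O_D)) _ _ (CellK (O_D := O_D)) exists_cellK
    (fun P hP => ?_) (fun P hP => ?_)
  · exact PtKan2.isIso_counit_app DerivedCategory.Qh (adapted_pull_rpush f) hP _ _
  · obtain ⟨P⟩ := P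
    haveI : IsIso ((lpullCounit f).app
        ((HomotopyCategory.quotient (ModSite.Mod O_D) (ComplexShape.up ℤ)).obj P)) :=
      isIso_counit_app (adaptedCell (K := K) f) (Lpull f) (lpullCounit f) P hP
    dsimp only [NatTrans.comp_app, Functor.associator_inv_app, Functor.whiskerRight_app]
    rw [Category.id_comp]
    exact inferInstanceAs (IsIso ((SiteCmp.RpushD f).map ((lpullCounit f).app
      ((HomotopyCategory.quotient (ModSite.Mod O_D) (ComplexShape.up ℤ)).obj P))))

/-- `Rf_* ⋙ Lf^*` is the right derived functor of `pushKh f ⋙ Lf^*` -/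
theorem isRight_rpush_lpull :
    (SiteCmp.RpushD f ⋙ Lpull f).IsRightDerivedFunctor
      (Functor.whiskerRight (rpushUnit f) (Lpull f) ≫ (Functor.associator _ _ _).hom)
      (WK O_C) := by
  refine (derives (SiteCmp.pushKh f ⋙ Lpull f)).isRightDerivedFunctor_of_isIso _ (fun I => ?_)
  haveI : CochainComplex.IsKInjective I.obj.as := I.property
  haveI h1 : IsIso ((rpushUnit f).app
      ((HomotopyCategory.quotient (ModSite.Mod O_C) (ComplexShape.up ℤ)).obj I.obj.as)) :=
    isIso_unit_app (SiteCmp.pushKh f) (rpushUnit f) I.obj.as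
  have h2 : IsIso ((rpushUnit f).app I.obj) := by
    obtain ⟨⟨I⟩, hI⟩ := I
    exact h1
  dsimp only [NatTrans.comp_app, Functor.associator_hom_app, Functor.whiskerRight_app]
  rw [Category.comp_id]
  exact inferInstanceAs (IsIso ((Lpull f).map ((rpushUnit f).app I.obj)))

/-- **the derived adjunction** `Lf^* ⊣ Rf_*` for ringed sites -/
noncomputable def lpullRpushAdj : Lpull f ⊣ SiteCmp.RpushD f :=
  haveI := isLeft_lpull_rpush f
  haveI := isRight_rpush_lpull f
  (adjK f).derived (WK O_D) (WK O_C) (lpullCounit f) (rpushUnit f)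

end Groth.Agent.Lib.Helper6.RlimPush
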