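import Mathlib
import Groth.Agent.Lib.Helper3.KInjDer

/-!
# Total right derived functors on a Grothendieck abelian category map distinguished triangles
to distinguished triangles (helper6; generic version of helper5's `TotalRD`)
-/

set_option autoImplicit false
set_option linter.style.haveILetI false
universe u
open CategoryTheory CategoryTheory.Limits Opposite
open Pretriangulated

attribute [local instance] HasDerivedCategory.standard

namespace Groth.Agent.Lib.Helper6.RlimPush

open Groth.Agent.Helper3.KInjDer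

section General

variable {C : Type*} [Category C] [Preadditive C] [HasZeroObject C] [HasShift C ℤ]
  [∀ n : ℤ, (shiftFunctor C n).Additive] [Pretriangulated C]

/-- a triangle whose first two maps are isomorphic to those of a distinguished triangle can be
completed to a distinguished triangle -/
theorem exists_mor₃_of_isos (T₀ : Triangle C) (hT₀ : T₀ ∈ distTriang C) {A B C' : C}
    (a : A ⟶ B) (b : B ⟶ C') (eA : A ≅ T₀.obj₁) (eB : B ≅ T₀.obj₂) (eC : C' ≅ T₀.obj₃)
    (h₁ : a ≫ eB.hom = eA.hom ≫ T₀.mor₁) (h₂ : b ≫ eC.hom = eB.hom ≫ T₀.mor₂) :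
    ∃ c : C' ⟶ A⟦(1 : ℤ)⟧, Triangle.mk a b c ∈ distTriang C := by
  refine ⟨eC.hom ≫ T₀.mor₃ ≫ (shiftFunctor C (1 : ℤ)).map eA.inv, ?_⟩
  refine isomorphic_distinguished _ hT₀ _ (Triangle.isoMk _ _ eA eB eC h₁ h₂ ?_)
  show (eC.hom ≫ T₀.mor₃ ≫ (shiftFunctor C (1 : ℤ)).map eA.inv) ≫
    (shiftFunctor C (1 : ℤ)).map eA.hom = eC.hom ≫ T₀.mor₃
  rw [Category.assoc, Category.assoc, ← Functor.map_comp, Iso.inv_hom_id,
    CategoryTheory.Functor.map_id, Category.comp_id]

lemma comp_inv_eq_inv_comp_aux {C : Type*} [Category C] {A B A' B' : C} (u : A ⟶ A') (v : B ⟶ B')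
    [IsIso u] [IsIso v] (a : A' ⟶ B') (b : A ⟶ B) (h : u ≫ a = b ≫ v) :
    a ≫ inv v = inv u ≫ b := by
  rw [IsIso.comp_inv_eq, Category.assoc, IsIso.eq_inv_comp, h]

end General

section Cone

variable {A : Type*} [Category A] [Abelian A]

theorem isKInjective_mappingCone' {K L : CochainComplex A ℤ} [K.IsKInjective] [L.IsKInjective]
    (φ : K ⟶ L) : (CochainComplex.mappingCone φ).IsKInjective := by
  rw [CochainComplex.isKInjective_iff_rightOrthogonal]
  exact ObjectProperty.ext_of_isTriangulatedClosed₃ _ _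
    (HomotopyCategory.mappingCone_triangleh_distinguished φ)
    (CochainComplex.IsKInjective.rightOrthogonal K) (CochainComplex.IsKInjective.rightOrthogonal L)

end Cone

variable {A : Type (u + 1)} [Category.{u} A] [Abelian A] [IsGrothendieckAbelian.{u} A]
  {B : Type (u + 1)} [Category.{u} B] [Abelian B]
  (F : A ⥤ B) [F.Additive]

/-- every object is represented by a K-injective complex -/
theorem exists_kInjective_repr (E : DerivedCategory A) :
    ∃ (I : CochainComplex A ℤ), I.IsKInjective ∧ Nonempty (E ≅ DerivedCategory.Q.obj I) := by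
  obtain ⟨I, p, hI, hp, -, -⟩ :=
    Groth.Agent.Helper3.KInjD.exists_kInjective_resolution (DerivedCategory.Q.objPreimage E)
  haveI : IsIso (DerivedCategory.Q.map p) := (DerivedCategory.isIso_Q_map_iff_quasiIso _ _).2 hp
  exact ⟨I, hI, ⟨(DerivedCategory.Q.objObjPreimageIso E).symm ≪≫
    asIso (DerivedCategory.Q.map p)⟩⟩

/-- `K(A) ⥤ D(B)` induced by `F` -/
noncomputable abbrev FKh : HomotopyCategory A (ComplexShape.up ℤ) ⥤ DerivedCategory B :=
  F.mapHomotopyCategory (ComplexShape.up ℤ) ⋙ DerivedCategory.Qh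

variable [(FKh F).HasRightDerivedFunctor
  (HomotopyCategory.quasiIso A (ComplexShape.up ℤ))]

/-- the total right derived functor -/
noncomputable abbrev RF : DerivedCategory A ⥤ DerivedCategory B :=
  (FKh F).totalRightDerived DerivedCategory.Qh
    (HomotopyCategory.quasiIso A (ComplexShape.up ℤ))

noncomputable abbrev rfUnit : FKh F ⟶ DerivedCategory.Qh ⋙ RF F :=
  (FKh F).totalRightDerivedUnit DerivedCategory.Qh
    (HomotopyCategory.quasiIso A (ComplexShape.up ℤ))

/-- `F` on complexes -/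
noncomputable abbrev FC : CochainComplex A ℤ ⥤ CochainComplex B ℤ :=
  F.mapHomologicalComplex (ComplexShape.up ℤ)

/-- `RF` is computed by `F` on K-injective complexes -/
noncomputable def rfObjIso (J : CochainComplex A ℤ) [J.IsKInjective] :
    (RF F).obj (DerivedCategory.Q.obj J) ≅ DerivedCategory.Q.obj ((FC F).obj J) :=
  haveI : IsIso ((rfUnit F).app
      ((HomotopyCategory.quotient A (ComplexShape.up ℤ)).obj J)) :=
    isIso_unit_app (FKh F) (rfUnit F) J
  (asIso ((rfUnit F).app
    ((HomotopyCategory.quotient A (ComplexShape.up ℤ)).obj J))).symm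

@[reassoc]
lemma rfObjIso_hom_naturality {I J : CochainComplex A ℤ} [I.IsKInjective]
    [J.IsKInjective] (ψ : I ⟶ J) :
    (RF F).map (DerivedCategory.Q.map ψ) ≫ (rfObjIso F J).hom =
      (rfObjIso F I).hom ≫ DerivedCategory.Q.map ((FC F).map ψ) := by
  have h := (rfUnit F).naturality ((HomotopyCategory.quotient A (ComplexShape.up ℤ)).map ψ)
  haveI : IsIso ((rfUnit F).app
      ((HomotopyCategory.quotient A (ComplexShape.up ℤ)).obj I)) :=
    isIso_unit_app (FKh F) (rfUnit F) I
  haveI : IsIso ((rfUnit F).app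
      ((HomotopyCategory.quotient A (ComplexShape.up ℤ)).obj J)) :=
    isIso_unit_app (FKh F) (rfUnit F) J
  exact comp_inv_eq_inv_comp_aux
    ((rfUnit F).app ((HomotopyCategory.quotient A (ComplexShape.up ℤ)).obj I))
    ((rfUnit F).app ((HomotopyCategory.quotient A (ComplexShape.up ℤ)).obj J))
    _ _ h.symm

/-- **`RF` maps distinguished triangles to distinguished triangles** (for a suitable third map) -/
theorem exists_distinguished_rf (T : Triangle (DerivedCategory A))
    (hT : T ∈ distTriang (DerivedCategory A)) :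
    ∃ c : (RF F).obj T.obj₃ ⟶ ((RF F).obj T.obj₁)⟦(1 : ℤ)⟧,
      Triangle.mk ((RF F).map T.mor₁) ((RF F).map T.mor₂) c ∈
        distTriang (DerivedCategory B) := by
  obtain ⟨I, hI, ⟨eI⟩⟩ := exists_kInjective_repr T.obj₁
  obtain ⟨J, hJ, ⟨eJ⟩⟩ := exists_kInjective_repr T.obj₂
  haveI := hI
  haveI := hJ
  obtain ⟨ψ, hψ⟩ : ∃ ψ : I ⟶ J, DerivedCategory.Q.map ψ = eI.inv ≫ T.mor₁ ≫ eJ.hom := by
    obtain ⟨g, hg⟩ := (CochainComplex.IsKInjective.Qh_map_bijective
      ((HomotopyCategory.quotient _ _).obj I) J).surjective (eI.inv ≫ T.mor₁ ≫ eJ.hom)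
    obtain ⟨ψ, rfl⟩ := (HomotopyCategory.quotient _ _).map_surjective g
    exact ⟨ψ, hg⟩
  haveI : (CochainComplex.mappingCone ψ).IsKInjective := isKInjective_mappingCone' ψ
  let T' := DerivedCategory.Q.mapTriangle.obj (CochainComplex.mappingCone.triangle ψ)
  have hT' : T' ∈ distTriang (DerivedCategory A) :=
    DerivedCategory.mappingCone_triangle_distinguished ψ
  have hcomm : T.mor₁ ≫ eJ.hom = eI.hom ≫ T'.mor₁ := by
    show T.mor₁ ≫ eJ.hom = eI.hom ≫ DerivedCategory.Q.map ψ
    rw [hψ, Iso.hom_inv_id_assoc]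
  let e : T ≅ T' := isoTriangleOfIso₁₂ T T' hT hT' eI eJ hcomm
  have he₁ : e.hom.hom₁ = eI.hom := isoTriangleOfIso₁₂_hom_hom₁ T T' hT hT' eI eJ hcomm
  have he₂ : e.hom.hom₂ = eJ.hom := isoTriangleOfIso₁₂_hom_hom₂ T T' hT hT' eI eJ hcomm
  let T₀ := DerivedCategory.Q.mapTriangle.obj
    (CochainComplex.mappingCone.triangle ((FC F).map ψ))
  have hT₀ : T₀ ∈ distTriang (DerivedCategory B) :=
    DerivedCategory.mappingCone_triangle_distinguished _
  let eA : (RF F).obj T.obj₁ ≅ T₀.obj₁ :=
    (RF F).mapIso eI ≪≫ rfObjIso F I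
  let eB : (RF F).obj T.obj₂ ≅ T₀.obj₂ :=
    (RF F).mapIso eJ ≪≫ rfObjIso F J
  let eC : (RF F).obj T.obj₃ ≅ T₀.obj₃ :=
    (RF F).mapIso (Triangle.π₃.mapIso e) ≪≫ rfObjIso F (CochainComplex.mappingCone ψ) ≪≫
      DerivedCategory.Q.mapIso
        (CochainComplex.mappingCone.mapHomologicalComplexIso ψ F)
  refine exists_mor₃_of_isos T₀ hT₀ _ _ eA eB eC ?_ ?_
  · show (RF F).map T.mor₁ ≫ (RF F).map eJ.hom ≫ (rfObjIso F J).hom =
      ((RF F).map eI.hom ≫ (rfObjIso F I).hom) ≫
        DerivedCategory.Q.map ((FC F).map ψ)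
    rw [Category.assoc, ← rfObjIso_hom_naturality, ← Functor.map_comp_assoc,
      ← Functor.map_comp_assoc, hcomm]
    rfl
  · have h2 : T.mor₂ ≫ e.hom.hom₃ = eJ.hom ≫
        DerivedCategory.Q.map (CochainComplex.mappingCone.inr ψ) := by
      have := e.hom.comm₂
      rw [he₂] at this
      exact this
    show (RF F).map T.mor₂ ≫ (RF F).map e.hom.hom₃ ≫
        (rfObjIso F (CochainComplex.mappingCone ψ)).hom ≫
        DerivedCategory.Q.map
          (CochainComplex.mappingCone.mapHomologicalComplexIso ψ F).hom =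
      ((RF F).map eJ.hom ≫ (rfObjIso F J).hom) ≫
        DerivedCategory.Q.map (CochainComplex.mappingCone.inr ((FC F).map ψ))
    rw [← CochainComplex.mappingCone.map_inr ψ F,
      Functor.map_comp, Category.assoc, ← rfObjIso_hom_naturality_assoc,
      ← Functor.map_comp_assoc, ← Functor.map_comp_assoc, h2]
    rfl

end Groth.Agent.Lib.Helper6.RlimPush
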